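import Mathlib
import Cfsg.Agent.H721.FR.Base
import Cfsg.Agent.S0848

/-!
# Indicators and inversion by elements of a subgroup (helper140, TEAM SR, S4970)

If every element of `G` is inverted by an element of `H` and all Frobenius-Schur indicators of `H` are one, then all
indicators of `G` are one (the restriction to `H` is then multiplicity free).
-/

set_option autoImplicit false

universe u v

namespace Cfsg.Agent.H140.FR

open Cfsg Cfsg.Agent.H955.FS Cfsg.Agent.H721.FR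
open Cfsg.Agent.Characters.Core
open scoped ComplexConjugate

/-- a character of a group all of whose indicators are one -/
theorem char_bound {H : Type v} [Group H] [Fintype H] (hH : FSGood False H) {θ : H → ℂ} (hθ : IsCharacter H θ) :
    ∃ n a : ℕ, fsi θ = n ∧ classInner θ θ = a ∧ n ≤ a := by
  classical
  have := finite_irr (G := H)
  have := Fintype.ofFinite (IrrCharacter H)
  obtain ⟨m, hm⟩ := exists_nat_comb hθ
  refine ⟨∑ ψ : IrrCharacter H, m ψ, ∑ ψ : IrrCharacter H, m ψ * m ψ, ?_, ?_, ?_⟩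
  · rw [fsi_eq_sum, hm]
    simp only [Finset.sum_apply, Pi.smul_apply]
    rw [Finset.sum_comm, Finset.mul_sum, Nat.cast_sum]
    refine Finset.sum_congr rfl fun ψ _ => ?_
    rw [← Finset.smul_sum, nsmul_eq_mul, mul_left_comm, ← fsi_eq_sum]
    rcases hH ψ ψ.2 with h | h
    · rw [h, mul_one]
    · exact h.1.elim
  · have h1 : θ = ∑ ψ : IrrCharacter H, (m ψ : ℂ) • (ψ : H → ℂ) := by
      rw [hm]
      refine Finset.sum_congr rfl fun ψ _ => ?_
      rw [Nat.cast_smul_eq_nsmul]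
    rw [h1, classInner_sum_smul_sum_smul]
    push_cast
    refine Finset.sum_congr rfl fun ψ _ => ?_
    rw [Complex.conj_natCast]
  · exact Finset.sum_le_sum fun ψ _ => Nat.le_mul_self _

theorem sum_card {G : Type u} [Fintype G] {H : Type v} [Fintype H] (P : H → G → Prop) :
    ∑ y : H, Nat.card {a : G // P y a} = Nat.card {p : H × G // P p.1 p.2} := by
  rw [← Nat.card_sigma]
  exact Nat.card_congr ⟨fun p => ⟨(p.1, p.2.1), p.2.2⟩, fun p => ⟨p.1.1, p.1.2, p.2⟩, fun _ => rfl, fun _ => rfl⟩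

/-- the counting bijection -/
theorem card_eq {G : Type u} [Group G] [Fintype G] {H : Type v} [Group H] [Fintype H] (ι : H →* G)
    (hinv : ∀ g : G, ∃ h : H, ι h * g * (ι h)⁻¹ = g⁻¹) :
    ∑ y : H, Nat.card {a : G // a * ι y * a⁻¹ = ι y} = ∑ y : H, Nat.card {x : G // x * x = ι (y * y)} := by
  classical
  choose t ht using hinv
  rw [sum_card, sum_card]
  have key : ∀ k y : G, k * y * k⁻¹ = y ↔ y * k * y⁻¹ = k := by
    intro k y
    rw [mul_inv_eq_iff_eq_mul, mul_inv_eq_iff_eq_mul, eq_comm]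
  refine Nat.card_congr ⟨fun p => ⟨(t p.1.2 * p.1.1, p.1.2 * ι (t p.1.2 * p.1.1)), ?_⟩,
    fun p => ⟨((t (p.1.2 * (ι p.1.1)⁻¹))⁻¹ * p.1.1, p.1.2 * (ι p.1.1)⁻¹), ?_⟩, ?_, ?_⟩
  · obtain ⟨⟨y, k⟩, hk⟩ := p
    dsimp only at hk ⊢
    have h1 : ι y * k * (ι y)⁻¹ = k := (key _ _).1 hk
    have h2 := ht k
    -- `(k y')² = y'²` with `y' k = k⁻¹ y'`
    have h3 : ι (t k) * ι y * k = k⁻¹ * (ι (t k) * ι y) := by
      calc ι (t k) * ι y * k = ι (t k) * (ι y * k * (ι y)⁻¹) * ι y := by group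
        _ = ι (t k) * k * (ι (t k))⁻¹ * (ι (t k) * ι y) := by rw [h1]; group
        _ = _ := by rw [h2]
    rw [map_mul ι (t k * y), map_mul ι (t k)]
    calc k * (ι (t k) * ι y) * (k * (ι (t k) * ι y)) = k * (ι (t k) * ι y * k) * (ι (t k) * ι y) := by group
      _ = k * (k⁻¹ * (ι (t k) * ι y)) * (ι (t k) * ι y) := by rw [h3]
      _ = ι (t k) * ι y * (ι (t k) * ι y) := by group
  · obtain ⟨⟨y, x⟩, hx⟩ := p
    dsimp only at hx ⊢
    have h2 := ht (x * (ι y)⁻¹)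
    rw [map_mul] at hx
    have h3 : ι y * (x * (ι y)⁻¹) * (ι y)⁻¹ = (x * (ι y)⁻¹)⁻¹ := by
      have h4 : x * (x * (ι y)⁻¹ * (ι y)⁻¹) = 1 := by
        calc x * (x * (ι y)⁻¹ * (ι y)⁻¹) = (x * x) * (ι y)⁻¹ * (ι y)⁻¹ := by group
          _ = 1 := by rw [hx]; group
      have h5 : x * (ι y)⁻¹ * (ι y)⁻¹ = x⁻¹ := eq_inv_of_mul_eq_one_right h4
      calc ι y * (x * (ι y)⁻¹) * (ι y)⁻¹ = ι y * (x * (ι y)⁻¹ * (ι y)⁻¹) := by group
        _ = ι y * x⁻¹ := by rw [h5]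
        _ = (x * (ι y)⁻¹)⁻¹ := by group
    generalize x * (ι y)⁻¹ = k at h2 h3 ⊢
    rw [key, map_mul, map_inv]
    calc (ι (t k))⁻¹ * ι y * k * ((ι (t k))⁻¹ * ι y)⁻¹ = (ι (t k))⁻¹ * (ι y * k * (ι y)⁻¹) * ι (t k) := by group
      _ = (ι (t k))⁻¹ * (ι (t k) * k * (ι (t k))⁻¹) * ι (t k) := by rw [h3, h2]
      _ = k := by group
  · rintro ⟨⟨y, k⟩, hk⟩
    have h1 : k * ι (t k * y) * (ι (t k * y))⁻¹ = k := by group
    refine Subtype.ext (Prod.ext ?_ h1)
    show (t (k * ι (t k * y) * (ι (t k * y))⁻¹))⁻¹ * (t k * y) = y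
    rw [h1, inv_mul_cancel_left]
  · rintro ⟨⟨y, x⟩, hx⟩
    have h1 : t (x * (ι y)⁻¹) * ((t (x * (ι y)⁻¹))⁻¹ * y) = y := mul_inv_cancel_left _ _
    refine Subtype.ext (Prod.ext h1 ?_)
    show x * (ι y)⁻¹ * ι (t (x * (ι y)⁻¹) * ((t (x * (ι y)⁻¹))⁻¹ * y)) = x
    rw [h1, inv_mul_cancel_right]

/-- **Inversion by elements of a subgroup.** -/
theorem FSGood.of_inv {G : Type u} [Group G] [Finite G] {H : Type v} [Group H] [Finite H] (ι : H →* G)
    (hH : FSGood False H) (hinv : ∀ g : G, ∃ h : H, ι h * g * (ι h)⁻¹ = g⁻¹) : FSGood False G := by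
  classical
  have := Fintype.ofFinite G
  have := Fintype.ofFinite H
  have := finite_irr (G := G)
  have := Fintype.ofFinite (IrrCharacter G)
  have hcH : (Nat.card H : ℂ) ≠ 0 := by exact_mod_cast Nat.card_pos.ne'
  choose n a hn ha hle using fun χ : IrrCharacter G =>
    char_bound hH (isCharacter_comp ι (isIrr_isCharacter χ.2))
  have he : ∀ χ : IrrCharacter G, ∃ e : ℤ, fsi (χ : G → ℂ) = e ∧ e ≤ 1 := by
    intro χ
    rcases fsi_cases χ.2 with h | h | h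
    · exact ⟨0, by rw [h]; simp, by norm_num⟩
    · exact ⟨1, by rw [h]; simp, le_refl _⟩
    · exact ⟨-1, by rw [h]; simp, by norm_num⟩
  choose e he he1 using he
  -- the two sums
  have hsum : ∑ χ : IrrCharacter G, (a χ : ℂ) = ∑ χ : IrrCharacter G, (e χ : ℂ) * n χ := by
    have h1 : ∀ χ : IrrCharacter G, (a χ : ℂ) = (Nat.card H : ℂ)⁻¹ * ∑ y : H, (χ : G → ℂ) (ι y) * conj ((χ : G → ℂ) (ι y)) :=
      fun χ => (ha χ).symm
    have h2 : ∀ χ : IrrCharacter G, (e χ : ℂ) * n χ =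
        (Nat.card H : ℂ)⁻¹ * ∑ y : H, H692.SqRoot.nu (χ : G → ℂ) * (χ : G → ℂ) (ι (y * y)) := by
      intro χ
      rw [← he, ← hn, fsi_eq_nu (χ : G → ℂ), fsi_eq_sum, ← Finset.mul_sum]
      simp only [Function.comp_apply]
      ring
    simp only [h1, h2]
    rw [← Finset.mul_sum, ← Finset.mul_sum, Finset.sum_comm, Finset.sum_comm (s := Finset.univ (α := IrrCharacter G))]
    congr 1
    have h3 := card_eq ι hinv
    have h4 : (∑ y : H, (Nat.card {a : G // a * ι y * a⁻¹ = ι y} : ℂ)) =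
        ∑ y : H, (Nat.card {x : G // x * x = ι (y * y)} : ℂ) := by exact_mod_cast h3
    have h5 : ∀ y : H, ∑ χ : IrrCharacter G, (χ : G → ℂ) (ι y) * conj ((χ : G → ℂ) (ι y)) =
        (Nat.card {a : G // a * ι y * a⁻¹ = ι y} : ℂ) := fun y => (S0848.column_orth _ _).symm
    have h6 : ∀ y : H, ∑ χ : IrrCharacter G, H692.SqRoot.nu (χ : G → ℂ) * (χ : G → ℂ) (ι (y * y)) =
        (Nat.card {x : G // x * x = ι (y * y)} : ℂ) := fun y => (H692.SqRoot.sqrtCount_eq_sum _).symm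
    simp only [h5, h6, h4]
  have hsum' : ∑ χ : IrrCharacter G, ((a χ : ℤ) - e χ * n χ) = 0 := by
    rw [Finset.sum_sub_distrib, sub_eq_zero]
    exact_mod_cast hsum
  have hnn : ∀ χ ∈ (Finset.univ : Finset (IrrCharacter G)), 0 ≤ (a χ : ℤ) - e χ * n χ := by
    intro χ _
    have h1 : e χ * n χ ≤ 1 * n χ := Int.mul_le_mul_of_nonneg_right (he1 χ) (Int.natCast_nonneg _)
    have h2 : (n χ : ℤ) ≤ a χ := by exact_mod_cast hle χ
    omega
  have hz := (Finset.sum_eq_zero_iff_of_nonneg hnn).1 hsum'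
  intro χ hχ
  left
  have h1 := hz ⟨χ, hχ⟩ (Finset.mem_univ _)
  have h2 : a ⟨χ, hχ⟩ ≠ 0 := by
    intro h0
    have h3 := ha ⟨χ, hχ⟩
    rw [h0, Nat.cast_zero] at h3
    have h4 := congrFun (classInner_self_eq_zero h3) 1
    obtain ⟨d, hd, hd1⟩ := isIrr_apply_one hχ
    have h5 : χ (ι 1) = 0 := h4
    rw [map_one, hd1] at h5
    exact hd.ne' (by exact_mod_cast h5)
  have h3 : 0 < e ⟨χ, hχ⟩ * n ⟨χ, hχ⟩ := by
    have : 0 < a ⟨χ, hχ⟩ := Nat.pos_of_ne_zero h2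
    omega
  have h4 : 0 < e ⟨χ, hχ⟩ := pos_of_mul_pos_left h3 (Int.natCast_nonneg _)
  have h5 : e ⟨χ, hχ⟩ = 1 := by have := he1 ⟨χ, hχ⟩; omega
  rw [he ⟨χ, hχ⟩, h5]
  norm_num

/-- transfer between universes -/
theorem FSGood.transfer {G : Type u} [Group G] [Finite G] {H : Type v} [Group H] [Finite H] (e : H ≃* G)
    (hH : FSGood False H) : FSGood False G := by
  refine FSGood.of_inv e.toMonoidHom hH fun g => ?_
  obtain ⟨c, hc⟩ := isConj_iff.1 (hH.isConj_inv (e.symm g))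
  refine ⟨c, ?_⟩
  have h1 := congrArg e hc
  simpa using h1

end Cfsg.Agent.H140.FR
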