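import Mathlib
import Cfsg.Agent.H140.FR.Inv

/-!
# The indicators of the symmetric groups (helper140, TEAM SR, S4970)
-/

set_option autoImplicit false

universe u v

namespace Cfsg.Agent.H140.FR

open Cfsg Cfsg.Agent.H955.FS Cfsg.Agent.H721.FR

/-- every permutation is inverted by a permutation which fixes a given point -/
theorem exists_inv {α : Type u} (g : Equiv.Perm α) (a : α) :
    ∃ h : Equiv.Perm α, h a = a ∧ h * g * h⁻¹ = g⁻¹ := by
  classical
  let s : Setoid α := Equiv.Perm.SameCycle.setoid g
  -- representatives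
  let r : α → α := fun x => if g.SameCycle a x then a else Quotient.out (Quotient.mk s x)
  have hr1 : ∀ x, g.SameCycle (r x) x := by
    intro x
    by_cases hx : g.SameCycle a x
    · simp only [r, if_pos hx]; exact hx
    · simp only [r, if_neg hx]
      exact Quotient.exact (Quotient.out_eq (Quotient.mk s x))
  have hr2 : ∀ x y, g.SameCycle x y → r x = r y := by
    intro x y hxy
    by_cases hx : g.SameCycle a x
    · simp only [r, if_pos hx, if_pos (hx.trans hxy)]
    · have hy : ¬ g.SameCycle a y := fun h => hx (h.trans hxy.symm)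
      simp only [r, if_neg hx, if_neg hy]
      rw [show Quotient.mk s x = Quotient.mk s y from Quotient.sound hxy]
  have hra : r a = a := by simp only [r, if_pos (Equiv.Perm.SameCycle.refl g a)]
  choose k hk using hr1
  -- `(g ^ m) z = (g ^ n) z` implies `(g ^ (-m)) z = (g ^ (-n)) z`
  have key : ∀ (m n : ℤ) (z : α), (g ^ m) z = (g ^ n) z → (g ^ (-m)) z = (g ^ (-n)) z := by
    intro m n z h
    have h1 : (g ^ (-m - n)) ((g ^ m) z) = (g ^ (-m - n)) ((g ^ n) z) := by rw [h]
    rw [← Equiv.Perm.mul_apply, ← Equiv.Perm.mul_apply, ← zpow_add, ← zpow_add] at h1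
    have e1 : -m - n + m = -n := by ring
    have e2 : -m - n + n = -m := by ring
    rw [e1, e2] at h1
    exact h1.symm
  let h : α → α := fun x => (g ^ (-(k x))) (r x)
  have hsc : ∀ x, g.SameCycle x (h x) := fun x =>
    (Equiv.Perm.SameCycle.symm ⟨k x, hk x⟩).trans ⟨-(k x), rfl⟩
  have hhx : ∀ x (m : ℤ), (g ^ m) (r x) = x → h x = (g ^ (-m)) (r x) := by
    intro x m hm
    exact key _ _ _ ((hk x).trans hm.symm)
  have hinv : Function.Involutive h := by
    intro x
    have h1 : r (h x) = r x := (hr2 _ _ (hsc x)).symm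
    have h2 := hhx (h x) (-(k x)) (by rw [h1])
    rw [h2, neg_neg, h1, hk]
  have hg : ∀ x, h (g x) = g⁻¹ (h x) := by
    intro x
    have h1 : r (g x) = r x := (hr2 _ _ (Equiv.Perm.sameCycle_apply_right.2 (Equiv.Perm.SameCycle.refl g x))).symm
    have h2 := hhx (g x) (1 + k x) (by
      rw [h1, zpow_add, Equiv.Perm.mul_apply, hk, zpow_one])
    rw [h2, h1]
    show _ = g⁻¹ ((g ^ (-(k x))) (r x))
    have e1 : -(1 + k x) = -1 + -(k x) := by ring
    rw [e1, zpow_add, Equiv.Perm.mul_apply, zpow_neg_one]
  refine ⟨hinv.toPerm h, ?_, ?_⟩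
  · show h a = a
    have h1 := hhx a 0 (by rw [hra]; rfl)
    rw [h1, hra]
    rfl
  · rw [mul_inv_eq_iff_eq_mul]
    ext x
    exact hg x

/-- **The indicators of the symmetric groups are one.** -/
theorem fsGood_perm (n : ℕ) : ∀ (α : Type u) [Finite α], Nat.card α = n → FSGood False (Equiv.Perm α) := by
  induction n with
  | zero =>
    intro α _ hα
    have : IsEmpty α := (Nat.card_eq_zero.1 hα).resolve_right (fun h => h.false)
    have hs : Subsingleton (Equiv.Perm α) := ⟨fun f g => by ext x; exact isEmptyElim x⟩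
    refine ((fsz_one_iff (G := Equiv.Perm α)).1 ?_).of_isConj_inv fun g => by rw [Subsingleton.elim g⁻¹ g]
    intro χ hχ h0
    have := Fintype.ofFinite (Equiv.Perm α)
    rw [fsi_eq_sum] at h0
    have h1 : ∑ s : Equiv.Perm α, χ (s * s) = χ 1 := by
      rw [Fintype.sum_subsingleton _ (1 : Equiv.Perm α), one_mul]
    have h2 : Nat.card (Equiv.Perm α) = 1 := Nat.card_unique
    rw [h1, h2] at h0
    obtain ⟨d, hd, hd1⟩ := Characters.Core.isIrr_apply_one hχ
    rw [hd1] at h0
    have h3 : ((d * d + d : ℕ) : ℂ) = 0 := by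
      push_cast
      linear_combination h0
    have h4 : d * d + d = 0 := by exact_mod_cast h3
    omega
  | succ n ih =>
    intro α _ hα
    classical
    have hne : Nonempty α := by
      rw [← Finite.card_pos_iff, hα]; omega
    obtain ⟨a⟩ := hne
    have hcard : Nat.card {x : α // x ≠ a} = n := by
      have := Fintype.ofFinite α
      rw [Nat.card_eq_fintype_card] at hα ⊢
      rw [Fintype.card_subtype_compl, Fintype.card_subtype_eq, hα]
      rfl
    refine FSGood.of_inv (H := Equiv.Perm {x : α // x ≠ a}) Equiv.Perm.ofSubtype (ih _ hcard) fun g => ?_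
    obtain ⟨h, ha, hg⟩ := exists_inv g a
    have hp : ∀ x, h x ≠ a ↔ x ≠ a := by
      intro x
      rw [not_iff_not]
      constructor
      · intro hx
        apply h.injective
        rw [hx, ha]
      · rintro rfl
        exact ha
    refine ⟨h.subtypePerm hp, ?_⟩
    rw [Equiv.Perm.ofSubtype_subtypePerm]
    · exact hg
    · intro x hx
      rintro rfl
      exact hx ha

theorem fsGood_perm' (α : Type u) [Finite α] : FSGood False (Equiv.Perm α) := fsGood_perm _ α rfl

end Cfsg.Agent.H140.FR
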