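import Mathlib
import Cfsg.Agent.H140.FR.Sym
import Cfsg.Agent.H839.FR.IndexTwo
import Cfsg.Prelude.Def_Classical

/-!
# The row `A_n` (helper140, TEAM SR, S4970)
-/

set_option autoImplicit false

universe u v

namespace Cfsg.Agent.H140.FR

open Cfsg Cfsg.Agent.H955.FS Cfsg.Agent.H721.FR

/-- transfer of the row predicate between universes -/
theorem fr_transfer {G : Type u} [Group G] [Finite G] {H : Type v} [Group H] [Finite H] (e : H ≃* G)
    (h : FR H) : FR G := by
  intro hr
  refine FSGood.transfer e (h fun g => ?_)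
  obtain ⟨x, hx⟩ := isConj_iff.1 (hr (e g))
  refine isConj_iff.2 ⟨e.symm x, e.injective ?_⟩
  simpa using hx

/-- the row `A_n`, from the lemma on subgroups of index two -/
theorem fr_alt_of (hI2 : ∀ {G : Type} [Group G] [Finite G] (N : Subgroup G), N.index = 2 → FSGood False G →
    (∀ g : N, IsConj g g⁻¹) → FSGood False N) {S : Type u} [Group S] [Finite S] (h : Cfsg.IsAlternating S) :
    FR S := by
  obtain ⟨n, hn, ⟨e⟩⟩ := h
  refine fr_transfer e.symm fun hr => ?_
  have : Nontrivial (Fin n) := Fin.nontrivial_iff_two_le.2 (by omega)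
  exact hI2 (alternatingGroup (Fin n)) alternatingGroup.index_eq_two (fsGood_perm' _) hr

/-- **The row `A_n`.** -/
theorem fr_alt {S : Type u} [Group S] [Finite S] (h : Cfsg.IsAlternating S) : FR S :=
  fr_alt_of (fun N hN h hr => Cfsg.Agent.H839.FR.index_two N hN h hr) h

end Cfsg.Agent.H140.FR
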